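import Groth.Agent.H18ElkikTor.Main
import Groth.Agent.H9Hens.PairHens
import Groth.Agent.H9Hens.PairOps
import Mathlib.RingTheory.LaurentSeries
import Mathlib.RingTheory.Flat.TorsionFree

/-! The henselization of `R[t]` along `(t)` and Laurent series. -/

set_option autoImplicit false
set_option backward.isDefEq.respectTransparency false
set_option linter.style.haveILetI false
universe u

open CategoryTheory AlgebraicGeometry

namespace Groth.Agent.H18ElkikTor

open Polynomial in
theorem congr_trunc {R : Type u} [CommRing R] {n : ℕ} (p : R[X]) (f : PowerSeries R)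
    (h : ∀ d < n, p.coeff d = PowerSeries.coeff d f) : (X : R[X]) ^ n ∣ p - PowerSeries.trunc n f :=
  Polynomial.X_pow_dvd_iff.2 fun d hd => by simp [PowerSeries.coeff_trunc, hd, h d hd]

variable {R : Type u} [CommRing R] {B : Type u} [CommRing B] [Algebra (Polynomial R) B]

local notation "ξ" => algebraMap (Polynomial R) B Polynomial.X

theorem map_span_X : (Ideal.span {(Polynomial.X : Polynomial R)}).map (algebraMap (Polynomial R) B) = Ideal.span {ξ} := by
  rw [Ideal.map_span, Set.image_singleton]

theorem mk_eq_of_dvd {n : ℕ} {p q : Polynomial R} (h : (Polynomial.X : Polynomial R) ^ n ∣ p - q) :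
    Ideal.Quotient.mk (Ideal.span {ξ} ^ n) (algebraMap _ B p) = Ideal.Quotient.mk _ (algebraMap _ B q) := by
  rw [Ideal.Quotient.eq, ← map_sub, Ideal.span_singleton_pow, Ideal.mem_span_singleton, ← map_pow]
  exact map_dvd _ h

/-- Truncations as ring maps. -/
noncomputable def truncHom (n : ℕ) : PowerSeries R →+* B ⧸ Ideal.span {ξ} ^ n where
  toFun f := Ideal.Quotient.mk _ (algebraMap _ B (PowerSeries.trunc n f))
  map_one' := by
    refine (mk_eq_of_dvd (congr_trunc 1 1 fun d _ => ?_)).symm.trans (by rw [map_one, map_one])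
    simp [Polynomial.coeff_one, PowerSeries.coeff_one]
  map_mul' f g := by
    rw [← map_mul, ← map_mul]
    refine (mk_eq_of_dvd (congr_trunc _ _ fun d hd => ?_)).symm
    rw [← Polynomial.coeff_coe, Polynomial.coe_mul, PowerSeries.coeff_mul, PowerSeries.coeff_mul]
    refine Finset.sum_congr rfl fun x hx => ?_
    have := Finset.HasAntidiagonal.mem_antidiagonal.1 hx
    simp [PowerSeries.coeff_trunc, show x.1 < n by omega, show x.2 < n by omega]
  map_zero' := by simp
  map_add' f g := by simp

theorem truncHom_algebraMap (n : ℕ) (p : Polynomial R) :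
    truncHom (B := B) n (algebraMap (Polynomial R) (PowerSeries R) p) = Ideal.Quotient.mk _ (algebraMap _ B p) :=
  (mk_eq_of_dvd (congr_trunc _ _ fun d _ => by simp [PowerSeries.algebraMap_apply'])).symm

theorem truncHom_comp (hB : Hens2.IsPairHenselization (Polynomial R) (Ideal.span {(Polynomial.X : Polynomial R)}) B)
    (ψ : B →ₐ[Polynomial R] PowerSeries R) (n : ℕ) :
    (truncHom (B := B) n).comp ψ.toRingHom = Ideal.Quotient.mk (Ideal.span {ξ} ^ n) := by
  haveI : HenselianRing (B ⧸ Ideal.span {ξ} ^ n) ((Ideal.span {ξ}).map (Ideal.Quotient.mk (Ideal.span {ξ} ^ n))) := by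
    refine H9Hens.henselianRing_of_isNilpotent fun x hx => ?_
    obtain ⟨z, hz, rfl⟩ := (Ideal.mem_map_iff_of_surjective _ Ideal.Quotient.mk_surjective).mp hx
    exact ⟨n, by rw [← map_pow, Ideal.Quotient.eq_zero_iff_mem]; exact Ideal.pow_mem_pow hz n⟩
  obtain ⟨g, -, hu⟩ := hB.2 (B ⧸ Ideal.span {ξ} ^ n) _ ((Ideal.Quotient.mk (Ideal.span {ξ} ^ n)).comp (algebraMap _ B))
    ‹_› (by rw [← Ideal.map_map, map_span_X])
  refine (hu _ ?_).trans (hu _ rfl).symm
  refine RingHom.ext fun p => ?_
  show truncHom n (ψ (algebraMap _ B p)) = _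
  rw [ψ.commutes, truncHom_algebraMap]
  rfl

theorem exists_section_laurent
    (hB : Hens2.IsPairHenselization (Polynomial R) (Ideal.span {(Polynomial.X : Polynomial R)}) B)
    (ψ : B →ₐ[Polynomial R] PowerSeries R) (χ : Localization.Away ξ →+* LaurentSeries R)
    (hχ : χ.comp (algebraMap B (Localization.Away ξ)) = (HahnSeries.ofPowerSeries ℤ R).comp ψ.toRingHom)
    (G : Over (Spec (CommRingCat.of (Localization.Away ξ)))) [GrpObj G] [IsAffine G.left] [Smooth G.hom]
    (P : Over (Spec (CommRingCat.of (Localization.Away ξ)))) (a : AlgGrp.Action G P)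
    (hP : NonAbH1.IsTorsorFor Scheme.fppfPrecoverage a)
    (hsec : NonAbH1.HasSectionOver P (Spec.map (CommRingCat.ofHom χ))) :
    NonAbH1.HasSectionOver P (𝟙 (Spec (CommRingCat.of (Localization.Away ξ)))) := by
  haveI : HenselianRing B (Ideal.span {ξ}) := map_span_X (R := R) (B := B) ▸ hB.1
  obtain ⟨π, hπ⟩ := H9Hens.exists_isPtColim_of_isPairHenselization hB
  haveI : Module.Flat (Polynomial R) B := hπ.flat
  have hbd : ∃ N : ℕ, ∀ b : B, (∃ m : ℕ, ξ ^ m * b = 0) → ξ ^ N * b = 0 := by
    refine ⟨0, fun b ⟨m, hm⟩ => ?_⟩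
    have hreg : IsSMulRegular B ((Polynomial.X : Polynomial R) ^ m) :=
      Module.Flat.isSMulRegular_of_isRegular ((Polynomial.monic_X_pow m).isRegular)
    have : b = 0 := hreg (show (Polynomial.X : Polynomial R) ^ m • b = (Polynomial.X : Polynomial R) ^ m • 0 by
      rw [smul_zero, Algebra.smul_def, map_pow]; exact hm)
    simp [this]
  let Λ : PowerSeries R →+* AdicCompletion (Ideal.span {ξ}) B :=
    AdicCompletion.liftRingHom (Ideal.span {ξ}) (fun n => truncHom n) (fun {m n} hle => RingHom.ext fun f => by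
      show Ideal.Quotient.factorPow _ hle (truncHom n f) = truncHom m f
      show Ideal.Quotient.mk _ (algebraMap _ B (PowerSeries.trunc n f)) = _
      exact mk_eq_of_dvd (congr_trunc _ _ fun d hd => by simp [PowerSeries.coeff_trunc, hd.trans_le hle]))
  have hΛ : ∀ b : B, Λ (ψ b) = algebraMap B (AdicCompletion (Ideal.span {ξ}) B) b := fun b =>
    AdicCompletion.ext_evalₐ fun n => by
      rw [AdicCompletion.evalₐ_liftRingHom, AlgHom.commutes]
      exact congr($(truncHom_comp hB ψ n) b)
  let μ : LaurentSeries R →+* Localization.Away (algebraMap B (AdicCompletion (Ideal.span {ξ}) B) ξ) :=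
    IsLocalization.lift (M := Submonoid.powers (PowerSeries.X : PowerSeries R))
      (g := (algebraMap _ _).comp Λ) (by
        rintro ⟨_, n, rfl⟩
        show IsUnit (algebraMap _ _ (Λ (PowerSeries.X ^ n)))
        rw [map_pow, map_pow, show (PowerSeries.X : PowerSeries R) = ψ ξ by rw [ψ.commutes]; simp [PowerSeries.algebraMap_apply'], hΛ]
        exact (IsLocalization.Away.algebraMap_isUnit _).pow n)
  have hμ : μ.comp χ = Localization.awayMap (algebraMap B (AdicCompletion (Ideal.span {ξ}) B)) ξ := by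
    refine IsLocalization.ringHom_ext (Submonoid.powers ξ) (RingHom.ext fun b => ?_)
    show μ (χ (algebraMap B _ b)) = Localization.awayMap (algebraMap B (AdicCompletion (Ideal.span {ξ}) B)) ξ (algebraMap B _ b)
    rw [show χ (algebraMap B _ b) = algebraMap (PowerSeries R) (LaurentSeries R) (ψ b) from congr($hχ b),
      IsLocalization.lift_eq]
    refine Eq.trans ?_ (IsLocalization.map_eq _ b).symm
    show algebraMap _ _ (Λ (ψ b)) = _
    rw [hΛ]
  obtain ⟨s, hs⟩ := hsec
  refine exists_section ξ hbd G P a hP ⟨Spec.map (CommRingCat.ofHom μ) ≫ s, ?_⟩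
  rw [Category.assoc, hs, ← Spec.map_comp, ← CommRingCat.ofHom_comp, hμ]

end Groth.Agent.H18ElkikTor
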