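import Groth.Agent.H3CAlg.ElkikPrincipal
import Groth.Agent.H18LoopTor.Main
import Mathlib.AlgebraicGeometry.Sites.Fpqc

/-! Smooth affine schemes over `A[1/t]` with a point over `Â[1/t]` have a point. -/

set_option autoImplicit false
set_option backward.isDefEq.respectTransparency false
set_option linter.style.haveILetI false
universe u

open CategoryTheory AlgebraicGeometry

namespace Groth.Agent.H18ElkikTor

variable {A : Type u} [CommRing A] (t : A)

set_option quotPrecheck false in
local notation "Tl" => Localization.Away t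
set_option quotPrecheck false in
local notation "Ah" => AdicCompletion (Ideal.span {t}) A
set_option quotPrecheck false in
local notation "Th" => Localization.Away (algebraMap A (AdicCompletion (Ideal.span {t}) A) t)

theorem exists_algHom [HenselianRing A (Ideal.span {t})]
    (hbd : ∃ N : ℕ, ∀ a : A, (∃ m : ℕ, t ^ m * a = 0) → t ^ N * a = 0)
    (C : Type u) [CommRing C] [Algebra Tl C] [Algebra.Smooth Tl C] (φ : C →+* Th)
    (hφ : φ.comp (algebraMap Tl C) = Localization.awayMap (algebraMap A Ah) t) :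
    Nonempty (C →ₐ[Tl] Tl) := by
  classical
  obtain ⟨N, hN⟩ := hbd
  letI : Algebra A C := ((algebraMap Tl C).comp (algebraMap A Tl)).toAlgebra
  haveI : IsScalarTower A Tl C := .of_algebraMap_eq fun _ => rfl
  have hA : ∀ x : A, φ (algebraMap A C x) = algebraMap Ah Th (algebraMap A Ah x) := fun x => by
    have : φ (algebraMap Tl C (algebraMap A Tl x)) = Localization.awayMap (algebraMap A Ah) t (algebraMap A Tl x) :=
      congr($hφ _)
    exact this.trans (IsLocalization.map_eq _ x)
  let Φ : C →ₐ[A] Th := ⟨φ, fun x => (hA x).trans (IsScalarTower.algebraMap_apply A Ah Th x).symm⟩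
  obtain ⟨gens, hgens⟩ := (inferInstance : Algebra.FiniteType Tl C).out
  have hsurj : ∀ c : C, ∃ (k : ℕ) (a : Ah), φ (algebraMap A C t ^ k * c) = algebraMap Ah Th a := fun c => by
    obtain ⟨k, a, ha⟩ := IsLocalization.Away.surj (algebraMap A Ah t) (φ c)
    exact ⟨k, a, by rw [map_mul, map_pow, hA, ← ha, mul_comm]⟩
  choose k a ha using hsurj
  let gen : C → C × Ah := fun c => (algebraMap A C t ^ k c * c, a c)
  let B : Subalgebra A (C × Ah) := Algebra.adjoin A (gens.image gen : Set (C × Ah))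
  haveI : Algebra.FiniteType A B := (Subalgebra.fg_iff_finiteType B).1 ⟨_, rfl⟩
  let p₁ : B →ₐ[A] C := (AlgHom.fst A C Ah).comp B.val
  let p₂ : B →ₐ[A] Ah := (AlgHom.snd A C Ah).comp B.val
  have hB : ∀ b : B, φ (p₁ b) = algebraMap Ah Th (p₂ b) := fun b => by
    have hle : B ≤ AlgHom.equalizer (Φ.comp (AlgHom.fst A C Ah))
        ((IsScalarTower.toAlgHom A Ah Th).comp (AlgHom.snd A C Ah)) := by
      refine Algebra.adjoin_le ?_
      intro x hx
      obtain ⟨c, -, rfl⟩ := Finset.mem_image.1 hx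
      exact ha c
    exact hle b.2
  letI : Algebra B C := p₁.toRingHom.toAlgebra
  haveI : IsScalarTower A B C := .of_algebraMap_eq fun x => (p₁.commutes x).symm
  have hu : IsUnit (algebraMap A C t) := (IsLocalization.Away.algebraMap_isUnit (S := Tl) t).map (algebraMap Tl C)
  have hsB : ∀ c : C, ∃ (j : ℕ) (b : B), p₁ b = algebraMap A C t ^ j * c := by
    intro c
    have hc : c ∈ Algebra.adjoin Tl (gens : Set C) := by rw [hgens]; exact Algebra.mem_top
    induction hc using Algebra.adjoin_induction with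
    | mem x hx => exact ⟨k x, ⟨gen x, Algebra.subset_adjoin (Finset.mem_coe.2 (Finset.mem_image_of_mem _ hx))⟩, rfl⟩
    | algebraMap r =>
      obtain ⟨j, x, hx⟩ := IsLocalization.Away.surj t r
      refine ⟨j, algebraMap A B x, ?_⟩
      rw [p₁.commutes]
      show algebraMap Tl C (algebraMap A Tl x) = algebraMap Tl C (algebraMap A Tl t) ^ j * algebraMap Tl C r
      rw [← hx, map_mul, map_pow, mul_comm]
    | add x y _ _ hx hy =>
      obtain ⟨i, b, hb⟩ := hx
      obtain ⟨j, b', hb'⟩ := hy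
      refine ⟨i + j, algebraMap A B t ^ j * b + algebraMap A B t ^ i * b', ?_⟩
      simp only [map_add, map_mul, map_pow, p₁.commutes, hb, hb']
      ring
    | mul x y _ _ hx hy =>
      obtain ⟨i, b, hb⟩ := hx
      obtain ⟨j, b', hb'⟩ := hy
      exact ⟨i + j, b * b', by rw [map_mul, hb, hb', pow_add]; ring⟩
  haveI hloc : IsLocalization (Algebra.algebraMapSubmonoid B (Submonoid.powers t)) C := by
    refine ⟨⟨?_, ?_, ?_⟩⟩
    · rintro ⟨_, _, ⟨j, rfl⟩, rfl⟩
      show IsUnit (algebraMap B C (algebraMap A B (t ^ j)))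
      rw [← IsScalarTower.algebraMap_apply A B C, map_pow]
      exact hu.pow j
    · intro c
      obtain ⟨j, b, hb⟩ := hsB c
      refine ⟨⟨b, algebraMap A B (t ^ j), t ^ j, ⟨j, rfl⟩, rfl⟩, ?_⟩
      show c * algebraMap B C (algebraMap A B (t ^ j)) = p₁ b
      rw [← IsScalarTower.algebraMap_apply A B C, map_pow, hb, mul_comm]
    · intro x y hxy
      have h1 : p₁ (x - y) = 0 := by rw [map_sub, sub_eq_zero]; exact hxy
      have h2 : algebraMap Ah Th (p₂ (x - y)) = 0 := by rw [← hB, h1, map_zero]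
      obtain ⟨⟨_, m, rfl⟩, hm⟩ := (IsLocalization.map_eq_zero_iff (Submonoid.powers (algebraMap A Ah t)) Th _).1 h2
      refine ⟨⟨_, t ^ m, ⟨m, rfl⟩, rfl⟩, ?_⟩
      rw [← sub_eq_zero, ← mul_sub]
      apply Subtype.ext
      refine Prod.ext ?_ ?_
      · show p₁ (algebraMap A B (t ^ m) * (x - y)) = 0
        rw [map_mul, h1, mul_zero]
      · show p₂ (algebraMap A B (t ^ m) * (x - y)) = 0
        rw [map_mul, p₂.commutes, map_pow]
        exact hm
  obtain ⟨τ, -⟩ := H3CAlg.ElkikPrincipal.main (T := Tl) t hN (B := B) (BT := C) ‹_› 0 p₂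
  have hg : ∀ y : Algebra.algebraMapSubmonoid B (Submonoid.powers t),
      IsUnit (((algebraMap A Tl).comp τ.toRingHom) y) := by
    rintro ⟨_, _, ⟨j, rfl⟩, rfl⟩
    show IsUnit (algebraMap A Tl (τ (algebraMap A B (t ^ j))))
    rw [τ.commutes]
    show IsUnit (algebraMap A Tl (t ^ j))
    rw [map_pow]
    exact (IsLocalization.Away.algebraMap_isUnit t).pow j
  let g : C →+* Tl := IsLocalization.lift (M := Algebra.algebraMapSubmonoid B (Submonoid.powers t)) hg
  have hgT : g.comp (algebraMap Tl C) = RingHom.id Tl := by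
    refine IsLocalization.ringHom_ext (Submonoid.powers t) (RingHom.ext fun x => ?_)
    show g (algebraMap A C x) = algebraMap A Tl x
    rw [IsScalarTower.algebraMap_apply A B C, IsLocalization.lift_eq]
    show algebraMap A Tl (τ (algebraMap A B x)) = _
    rw [τ.commutes]
    rfl
  exact ⟨⟨g, fun x => congr($hgT x)⟩⟩

theorem exists_section [HenselianRing A (Ideal.span {t})]
    (hbd : ∃ N : ℕ, ∀ a : A, (∃ m : ℕ, t ^ m * a = 0) → t ^ N * a = 0)
    (G : Over (Spec (CommRingCat.of Tl))) [GrpObj G] [IsAffine G.left] [Smooth G.hom]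
    (P : Over (Spec (CommRingCat.of Tl))) (a : AlgGrp.Action G P)
    (hP : NonAbH1.IsTorsorFor Scheme.fppfPrecoverage a)
    (hsec : NonAbH1.HasSectionOver P (Spec.map (CommRingCat.ofHom (Localization.awayMap (algebraMap A Ah) t)))) :
    NonAbH1.HasSectionOver P (𝟙 (Spec (CommRingCat.of Tl))) := by
  haveI : IsAffineHom G.hom := inferInstance
  obtain ⟨_, _, _⟩ := H18LoopTor.smooth_surjective_affine
    (a := a) ⟨hP.1, hP.2.choose, Scheme.fppfPrecoverage_le_fpqcPrecoverage _ hP.2.choose_spec.1, hP.2.choose_spec.2⟩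
  haveI : IsAffine P.left := isAffine_of_isAffineHom P.hom
  obtain ⟨s, hs⟩ := hsec
  let C := Γ(P.left, ⊤)
  obtain ⟨ψ, hψ⟩ : ∃ ψ : CommRingCat.of Tl ⟶ C, Spec.map ψ = P.left.isoSpec.inv ≫ P.hom := ⟨_, Spec.map_preimage _⟩
  letI : Algebra Tl C := ψ.hom.toAlgebra
  have hsm : Smooth (Spec.map ψ) := by rw [hψ]; infer_instance
  haveI : Algebra.Smooth Tl C := RingHom.smooth_algebraMap.mp ((HasRingHomProperty.Spec_iff (P := @Smooth)).1 hsm)
  obtain ⟨φ, hφ⟩ : ∃ φ : C ⟶ CommRingCat.of Th, Spec.map φ = s ≫ P.left.isoSpec.hom := ⟨_, Spec.map_preimage _⟩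
  have hc : ψ ≫ φ = CommRingCat.ofHom (Localization.awayMap (algebraMap A Ah) t) := by
    apply Spec.map_injective
    rw [Spec.map_comp, hφ, hψ, Category.assoc, Iso.hom_inv_id_assoc, hs]
  obtain ⟨g⟩ := exists_algHom t hbd C φ.hom (congrArg CommRingCat.Hom.hom hc)
  refine ⟨Spec.map (CommRingCat.ofHom g.toRingHom) ≫ P.left.isoSpec.inv, ?_⟩
  rw [Category.assoc, ← hψ, ← Spec.map_comp, ← Spec.map_id]
  exact congrArg Spec.map (CommRingCat.hom_ext g.comp_algebraMap)

end Groth.Agent.H18ElkikTor
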